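import Groth.Agent.Lib.WeilEq.Basic
import Mathlib.AlgebraicGeometry.IdealSheaf.Subscheme

/-!
# Representability of the agreement locus by a closed subscheme
-/

open CategoryTheory Limits AlgebraicGeometry Opposite

namespace Groth.Agent.WeilEq

universe u

theorem isSchemeTheoreticallyDominant_SpecMap {R S : CommRingCat.{u}} (φ : R ⟶ S)
    (hφ : Function.Injective φ) : IsSchemeTheoreticallyDominant (Spec.map φ) := by
  refine ⟨Scheme.IdealSheafData.ext_of_isAffine ?_⟩
  rw [Scheme.Hom.ker_apply, Scheme.IdealSheafData.ideal_bot, Pi.bot_apply, eq_bot_iff]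
  intro z hz
  rw [RingHom.mem_ker] at hz
  have hz' : (Spec.map φ).appTop z = 0 := hz
  have := congr((Scheme.ΓSpecIso S).hom $hz')
  rw [map_zero, ← CommRingCat.comp_apply, Scheme.ΓSpecIso_naturality, CommRingCat.comp_apply] at this
  have h0 : (Scheme.ΓSpecIso R).hom z = 0 := hφ (by rw [this, map_zero])
  have := congr((Scheme.ΓSpecIso R).inv $h0)
  rw [Iso.hom_inv_id_apply, map_zero] at this
  exact this

variable {K : Type u} [Field K] {T X Y : Scheme.{u}} (t : T ⟶ Spec (CommRingCat.of K))
  (x : X ⟶ Spec (CommRingCat.of K)) (a b : pullback t x ⟶ Y)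

/-- The affine closed subscheme cut out by an ideal on an affine open. -/
noncomputable def quotι (U : T.affineOpens) (I : Ideal Γ(T, U)) :
    Spec (CommRingCat.of (Γ(T, U) ⧸ I)) ⟶ T :=
  Spec.map (CommRingCat.ofHom (Ideal.Quotient.mk I)) ≫ U.2.fromSpec

/-- The smallest ideal cutting out a good closed subscheme of an affine open. -/
def goodIdeal (U : T.affineOpens) : Ideal Γ(T, U) :=
  sInf {I | Good t x a b (quotι U I)}

variable (y : Y ⟶ Spec (CommRingCat.of K)) [IsSeparated y] (hab : a ≫ y = b ≫ y)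

include hab in
/-- A good morphism from an affine scheme gives a good closed subscheme. -/
theorem good_ker (U : T.affineOpens) {S : CommRingCat.{u}} (φ : Γ(T, U) ⟶ S)
    (h : Good t x a b (Spec.map φ ≫ U.2.fromSpec)) :
    Good t x a b (quotι U (RingHom.ker φ.hom)) := by
  let ψ : CommRingCat.of (Γ(T, U) ⧸ RingHom.ker φ.hom) ⟶ S := CommRingCat.ofHom (RingHom.kerLift φ.hom)
  haveI := isSchemeTheoreticallyDominant_SpecMap ψ (RingHom.kerLift_injective φ.hom)
  refine good_of_isSchemeTheoreticallyDominant t x a b y hab (Spec.map ψ) _ ?_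
  rw [quotι, ← Spec.map_comp_assoc]
  exact h

theorem good_quot_mono (U : T.affineOpens) {S : CommRingCat.{u}} (φ : Γ(T, U) ⟶ S) {I : Ideal Γ(T, U)}
    (hI : Good t x a b (quotι U I)) (hle : I ≤ RingHom.ker φ.hom) :
    Good t x a b (Spec.map φ ≫ U.2.fromSpec) := by
  have h := good_comp t x a b (Spec.map (CommRingCat.ofHom (Ideal.Quotient.lift I φ.hom hle))) hI
  rw [quotι, ← Spec.map_comp_assoc] at h
  exact h

include hab in
theorem good_goodIdeal (U : T.affineOpens) : Good t x a b (quotι U (goodIdeal t x a b U)) := by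
  refine good_pi t x a b y hab (ι := {I : Ideal Γ(T, U) // Good t x a b (quotι U I)})
    (fun I => CommRingCat.of (Γ(T, U) ⧸ I.1))
    (fun I => CommRingCat.ofHom (Ideal.Quotient.factor (sInf_le I.2))) ?_ _ fun I => ?_
  · intro p hp
    obtain ⟨r, rfl⟩ := Ideal.Quotient.mk_surjective p
    refine Ideal.Quotient.eq_zero_iff_mem.2 (Submodule.mem_sInf.2 fun I hI => ?_)
    exact Ideal.Quotient.eq_zero_iff_mem.1 (hp ⟨I, hI⟩)
  · have e : Spec.map (CommRingCat.ofHom (Ideal.Quotient.factor (sInf_le I.2))) ≫ quotι U (goodIdeal t x a b U) =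
        quotι U I.1 := by
      unfold quotι
      exact (Spec.map_comp_assoc _ _ _).symm
    exact e.symm ▸ I.2

include hab in
theorem map_goodIdeal_basicOpen (U : T.affineOpens) (f : Γ(T, U)) :
    (goodIdeal t x a b U).map (T.presheaf.map (homOfLE <| T.basicOpen_le f).op).hom =
      goodIdeal t x a b (T.affineBasicOpen f) := by
  let V := T.affineBasicOpen f
  let ρ : Γ(T, U) ⟶ Γ(T, V) := T.presheaf.map (homOfLE <| T.basicOpen_le f).op
  show (goodIdeal t x a b U).map ρ.hom = goodIdeal t x a b V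
  have hρ : Spec.map ρ ≫ U.2.fromSpec = V.2.fromSpec := U.2.map_fromSpec V.2 _
  apply le_antisymm
  · rw [Ideal.map_le_iff_le_comap]
    refine sInf_le ?_
    show Good t x a b (quotι U _)
    let φ : Γ(T, U) ⟶ CommRingCat.of (Γ(T, V) ⧸ goodIdeal t x a b V) :=
      ρ ≫ CommRingCat.ofHom (Ideal.Quotient.mk (goodIdeal t x a b V))
    have hker : RingHom.ker φ.hom = (goodIdeal t x a b V).comap ρ.hom := by
      ext r
      exact Ideal.Quotient.eq_zero_iff_mem
    rw [← hker]
    refine good_ker t x a b y hab U φ ?_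
    rw [Spec.map_comp, Category.assoc, hρ]
    exact good_goodIdeal t x a b y hab V
  · refine sInf_le ?_
    show Good t x a b (quotι V _)
    have h := good_quot_mono t x a b U (ρ ≫ CommRingCat.ofHom (Ideal.Quotient.mk
      ((goodIdeal t x a b U).map ρ.hom))) (good_goodIdeal t x a b y hab U) (fun r hr => by
        simp only [CommRingCat.hom_comp, CommRingCat.hom_ofHom, RingHom.mem_ker, RingHom.coe_comp,
          Function.comp_apply, Ideal.Quotient.eq_zero_iff_mem]
        exact Ideal.mem_map_of_mem _ hr)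
    rw [Spec.map_comp, Category.assoc, hρ] at h
    exact h

/-- The ideal sheaf of the agreement locus. -/
def locus : T.IdealSheafData where
  ideal := goodIdeal t x a b
  map_ideal_basicOpen := map_goodIdeal_basicOpen t x a b y hab

theorem good_locus : Good t x a b (locus t x a b y hab).subschemeι := by
  refine good_of_cover t x a b (locus t x a b y hab).subschemeCover.openCover _ fun U => ?_
  show Good t x a b ((locus t x a b y hab).subschemeCover.f U ≫ _)
  rw [Scheme.IdealSheafData.subschemeCover_map_subschemeι, Scheme.IdealSheafData.glueDataObjι_ι]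
  exact good_goodIdeal t x a b y hab U

theorem locus_le_ker {T' : Scheme.{u}} (g : T' ⟶ T) (hg : Good t x a b g) :
    locus t x a b y hab ≤ g.ker := by
  refine Scheme.IdealSheafData.le_ofIdeals_iff.2 fun U r hr => ?_
  rw [RingHom.mem_ker]
  refine T'.sheaf.eq_of_locally_eq'
    (fun W : {W : T'.affineOpens // (W : T'.Opens) ≤ g ⁻¹ᵁ U} => (W.1 : T'.Opens)) (g ⁻¹ᵁ U)
    (fun W => homOfLE W.2) (fun p hp => ?_) _ _ fun W => ?_
  · obtain ⟨W, hW, hpW, hle⟩ := exists_isAffineOpen_mem_and_subset hp
    exact TopologicalSpace.Opens.mem_iSup.2 ⟨⟨⟨W, hW⟩, hle⟩, hpW⟩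
  · show T'.presheaf.map (homOfLE W.2).op (g.app U r) = T'.presheaf.map (homOfLE W.2).op 0
    rw [map_zero, ← CommRingCat.comp_apply]
    show g.appLE U W.1 W.2 r = 0
    have hle : goodIdeal t x a b U ≤ RingHom.ker (g.appLE U W.1 W.2).hom := by
      refine sInf_le (good_ker t x a b y hab U _ ?_)
      rw [IsAffineOpen.SpecMap_appLE_fromSpec g U.2 W.1.2]
      exact good_comp t x a b _ hg
    exact hle hr

/-- The agreement locus is representable by a closed subscheme. -/
theorem exists_closedSubscheme (hab : a ≫ y = b ≫ y) :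
    ∃ (Z : Scheme.{u}) (i : Z ⟶ T), IsClosedImmersion i ∧
      ∀ {T' : Scheme.{u}} (g : T' ⟶ T), (∃ z : T' ⟶ Z, z ≫ i = g) ↔ Good t x a b g := by
  refine ⟨_, (locus t x a b y hab).subschemeι, inferInstance, fun {T'} g => ⟨?_, fun hg => ?_⟩⟩
  · rintro ⟨z, rfl⟩
    exact good_comp t x a b z (good_locus t x a b y hab)
  · exact ⟨IsClosedImmersion.lift _ g (by
      rw [Scheme.IdealSheafData.ker_subschemeι]; exact locus_le_ker t x a b y hab g hg),
      IsClosedImmersion.lift_fac _ _ _⟩

end Groth.Agent.WeilEq
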