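import Mathlib.AlgebraicGeometry.Morphisms.SchemeTheoreticallyDominant
import Mathlib.AlgebraicGeometry.Morphisms.ClosedImmersion
import Mathlib.AlgebraicGeometry.Morphisms.Flat
import Mathlib.AlgebraicGeometry.Morphisms.Separated
import Mathlib.LinearAlgebra.TensorProduct.Basis
import Mathlib.RingTheory.IsTensorProduct
import Groth.Agent.Lib.AbRigid.Epi

/-!
# The locus over which two morphisms out of a product agree

Over a field `K`, for morphisms `a b : T ×_K X ⟶ Y` with `Y` separated, the functor of `T' → T` such that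
`a` and `b` agree on `T' ×_K X` is represented by a closed subscheme of `T`.
-/

open CategoryTheory Limits AlgebraicGeometry TensorProduct

namespace Groth.Agent.WeilEq

universe u

variable {K : Type u} [Field K] {T X Y : Scheme.{u}} (t : T ⟶ Spec (CommRingCat.of K))
  (x : X ⟶ Spec (CommRingCat.of K)) (a b : pullback t x ⟶ Y)

/-- The two morphisms agree universally after base change along `g`. -/
def Good {T' : Scheme.{u}} (g : T' ⟶ T) : Prop :=
  ∀ (W : Scheme.{u}) (p : W ⟶ T') (w : W ⟶ pullback t x), w ≫ pullback.fst t x = p ≫ g → w ≫ a = w ≫ b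

theorem good_comp {T' T'' : Scheme.{u}} (h : T'' ⟶ T') {g : T' ⟶ T} (hg : Good t x a b g) :
    Good t x a b (h ≫ g) := fun W p w hw => hg W (p ≫ h) w (by rw [hw, Category.assoc])

theorem good_of_cover {T' : Scheme.{u}} (𝒰 : T'.OpenCover) (g : T' ⟶ T)
    (h : ∀ i, Good t x a b (𝒰.f i ≫ g)) : Good t x a b g := by
  intro W p w hw
  refine Scheme.Cover.hom_ext (𝒰.pullback₁ p) _ _ fun i => ?_
  show pullback.fst p (𝒰.f i) ≫ _ = pullback.fst p (𝒰.f i) ≫ _
  rw [← Category.assoc, ← Category.assoc]
  refine h i _ (pullback.snd p (𝒰.f i)) _ ?_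
  rw [Category.assoc, hw, pullback.condition_assoc]

theorem good_of_isSchemeTheoreticallyDominant (y : Y ⟶ Spec (CommRingCat.of K)) [IsSeparated y]
    (hab : a ≫ y = b ≫ y) {T' T'' : Scheme.{u}} (r : T'' ⟶ T') [QuasiCompact r]
    [IsSchemeTheoreticallyDominant r] (g : T' ⟶ T) (hg : Good t x a b (r ≫ g)) : Good t x a b g := by
  intro W p w hw
  let π := pullback.fst g (pullback.fst t x)
  haveI : Flat x := inferInstance
  haveI : Flat (pullback.fst t x) := MorphismProperty.pullback_fst _ _ inferInstance
  haveI : Flat π := MorphismProperty.pullback_fst _ _ inferInstance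
  let r' := pullback.fst π r
  haveI : IsSchemeTheoreticallyDominant r' :=
    IsSchemeTheoreticallyDominant.of_isPullback (IsPullback.of_hasPullback π r).flip
  have h1 : r' ≫ pullback.snd g (pullback.fst t x) ≫ a = r' ≫ pullback.snd g (pullback.fst t x) ≫ b := by
    rw [← Category.assoc, ← Category.assoc]
    refine hg _ (pullback.snd π r) _ ?_
    rw [Category.assoc, ← pullback.condition, pullback.condition_assoc]
  have h2 := AbRigid.eq_of_comp_eq_of_ker_eq_bot r' r'.ker_eq_bot y
    (pullback.snd g (pullback.fst t x) ≫ a) (pullback.snd g (pullback.fst t x) ≫ b)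
    (by rw [Category.assoc, Category.assoc, hab]) h1
  calc w ≫ a = pullback.lift p w hw.symm ≫ pullback.snd _ _ ≫ a := by rw [pullback.lift_snd_assoc]
    _ = pullback.lift p w hw.symm ≫ pullback.snd _ _ ≫ b := by rw [h2]
    _ = w ≫ b := by rw [pullback.lift_snd_assoc]

/-- Morphisms from an affine scheme to a separated one which agree after a jointly injective family of
ring maps agree. -/
theorem eq_of_jointly_injective {B : CommRingCat.{u}} (y : Y ⟶ Spec (CommRingCat.of K)) [IsSeparated y]
    {ι : Type*} (C : ι → CommRingCat.{u}) (φ : ∀ i, B ⟶ C i)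
    (hinj : ∀ z : B, (∀ i, φ i z = 0) → z = 0) (f f' : Spec B ⟶ Y) (hff : f ≫ y = f' ≫ y)
    (h : ∀ i, Spec.map (φ i) ≫ f = Spec.map (φ i) ≫ f') : f = f' := by
  let d : Spec B ⟶ pullback y y := pullback.lift f f' hff
  let c := pullback.snd (pullback.diagonal y) d
  haveI : IsClosedImmersion c := MorphismProperty.pullback_snd _ _ inferInstance
  obtain ⟨hW, hsurj⟩ := (IsClosedImmersion.isAffine_surjective_of_isAffine c)
  have hc : c ≫ f = c ≫ f' := by
    have := pullback.condition (f := pullback.diagonal y) (g := d)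
    have h1 := congr($this ≫ pullback.fst y y)
    have h2 := congr($this ≫ pullback.snd y y)
    simp only [Category.assoc, pullback.diagonal_fst, pullback.diagonal_snd, Category.comp_id,
      d, pullback.lift_fst, pullback.lift_snd] at h1 h2
    exact h1.symm.trans h2
  have hfac : ∀ i, ∃ s : Spec (C i) ⟶ pullback (pullback.diagonal y) d, s ≫ c = Spec.map (φ i) := fun i =>
    ⟨pullback.lift (Spec.map (φ i) ≫ f) (Spec.map (φ i)) (by
      apply pullback.hom_ext
      · simp only [d, Category.assoc, pullback.diagonal_fst, Category.comp_id, pullback.lift_fst]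
      · simp only [d, Category.assoc, pullback.diagonal_snd, Category.comp_id, pullback.lift_snd, h i]),
      pullback.lift_snd _ _ _⟩
  have hinj' : Function.Injective c.appTop := by
    rw [injective_iff_map_eq_zero]
    intro z hz
    suffices (Scheme.ΓSpecIso B).hom z = 0 by
      simpa using congr((Scheme.ΓSpecIso B).inv $this)
    refine hinj _ fun i => ?_
    obtain ⟨s, hs⟩ := hfac i
    have h0 : (Spec.map (φ i)).appTop z = 0 := by
      rw [← hs, Scheme.Hom.comp_appTop, CommRingCat.comp_apply, hz, map_zero]
    have := congr((Scheme.ΓSpecIso (C i)).hom $h0)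
    rw [map_zero, ← CommRingCat.comp_apply, Scheme.ΓSpecIso_naturality, CommRingCat.comp_apply] at this
    exact this
  haveI : IsIso c.appTop := by
    rw [ConcreteCategory.isIso_iff_bijective]; exact ⟨hinj', hsurj⟩
  haveI : IsIso c := by
    haveI := hW
    exact (HasAffineProperty.iff_of_isAffine (P := MorphismProperty.isomorphisms Scheme) (f := c)).2 ⟨hW, ‹_›⟩
  exact (cancel_epi c).1 hc

theorem tensor_pi_eq_zero {R : Type*} [CommRing R] {P A : Type*} [AddCommGroup P] [Module R P]
    [AddCommGroup A] [Module R A] [Module.Free R A] {ι : Type*} {M : ι → Type*}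
    [∀ i, AddCommGroup (M i)] [∀ i, Module R (M i)] (π : ∀ i, P →ₗ[R] M i)
    (hπ : ∀ p, (∀ i, π i p = 0) → p = 0) (z : P ⊗[R] A) (h : ∀ i, (π i).rTensor A z = 0) : z = 0 := by
  classical
  let e := Module.Free.chooseBasis R A
  apply (TensorProduct.equivFinsuppOfBasisRight e).injective
  rw [map_zero]
  ext j
  refine hπ _ fun i => ?_
  have key : ∀ w : P ⊗[R] A, π i (TensorProduct.equivFinsuppOfBasisRight e w j) =
      TensorProduct.equivFinsuppOfBasisRight e ((π i).rTensor A w) j := by
    intro w
    induction w using TensorProduct.induction_on with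
    | zero => simp
    | tmul p q => simp [TensorProduct.equivFinsuppOfBasisRight_apply_tmul_apply]
    | add u v hu hv => simp [map_add, hu, hv]
  rw [key, h i, map_zero, Finsupp.coe_zero, Pi.zero_apply]

/-- Goodness of a product of rings. -/
theorem good_pi (y : Y ⟶ Spec (CommRingCat.of K)) [IsSeparated y] (hab : a ≫ y = b ≫ y)
    {P : CommRingCat.{u}} {ι : Type u} (C : ι → CommRingCat.{u}) (π : ∀ i, P ⟶ C i)
    (hinj : ∀ p : P, (∀ i, π i p = 0) → p = 0) (g : Spec P ⟶ T)
    (h : ∀ i, Good t x a b (Spec.map (π i) ≫ g)) : Good t x a b g := by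
  intro W p w hw
  let q := w ≫ pullback.snd t x
  refine Scheme.Cover.hom_ext (X.affineOpenCover.openCover.pullback₁ q) _ _ fun v => ?_
  show pullback.fst q (X.affineOpenCover.f v) ≫ _ = pullback.fst q (X.affineOpenCover.f v) ≫ _
  set V := X.affineOpenCover.f v
  letI : Algebra K P := (Spec.preimage (g ≫ t)).hom.toAlgebra
  letI : Algebra K (X.affineOpenCover.X v) := (Spec.preimage (V ≫ x)).hom.toAlgebra
  have hP : Spec.map (CommRingCat.ofHom (algebraMap K P)) = g ≫ t := Spec.map_preimage _
  have hA : Spec.map (CommRingCat.ofHom (algebraMap K (X.affineOpenCover.X v))) = V ≫ x := Spec.map_preimage _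
  let e := pullbackSpecIso K P (X.affineOpenCover.X v)
  let m : pullback (Spec.map (CommRingCat.ofHom (algebraMap K P)))
      (Spec.map (CommRingCat.ofHom (algebraMap K (X.affineOpenCover.X v)))) ⟶ pullback t x :=
    pullback.map _ _ _ _ g V (𝟙 _) (by rw [Category.comp_id, hP]) (by rw [Category.comp_id, hA])
  have key : e.inv ≫ m ≫ a = e.inv ≫ m ≫ b := by
    letI : ∀ i, Algebra K (C i) := fun i => ((π i).hom.comp (algebraMap K P)).toAlgebra
    let πA : ∀ i, P →ₐ[K] C i := fun i => { (π i).hom with commutes' := fun _ => rfl }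
    refine eq_of_jointly_injective y (fun i => CommRingCat.of (C i ⊗[K] X.affineOpenCover.X v))
      (fun i => CommRingCat.ofHom (Algebra.TensorProduct.map (πA i) (AlgHom.id K _)).toRingHom)
      (fun z hz => tensor_pi_eq_zero (fun i => (πA i).toLinearMap) hinj z hz) _ _
      (by simp only [Category.assoc, hab]) fun i => ?_
    simp only [← Category.assoc]
    refine h i _ (Spec.map (CommRingCat.ofHom Algebra.TensorProduct.includeLeftRingHom)) _ ?_
    rw [Category.assoc, Category.assoc, pullback.lift_fst, pullbackSpecIso_inv_fst_assoc, ← Spec.map_comp_assoc,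
      ← Spec.map_comp_assoc]
    rfl
  let l : pullback q V ⟶ pullback (Spec.map (CommRingCat.ofHom (algebraMap K P)))
      (Spec.map (CommRingCat.ofHom (algebraMap K (X.affineOpenCover.X v)))) :=
    pullback.lift (pullback.fst q V ≫ p) (pullback.snd q V) (by
      rw [hP, hA, ← pullback.condition_assoc, Category.assoc, ← reassoc_of% hw, Category.assoc, pullback.condition])
  have hl : pullback.fst q V ≫ w = l ≫ m := by
    apply pullback.hom_ext
    · simp only [l, m, Category.assoc, hw, pullback.lift_fst, pullback.lift_fst_assoc]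
    · rw [Category.assoc, Category.assoc, pullback.lift_snd, pullback.lift_snd_assoc, pullback.condition]
  rw [← Category.assoc, ← Category.assoc, hl, ← e.hom_inv_id_assoc m]
  simp only [Category.assoc, key]

end Groth.Agent.WeilEq
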